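import Cfsg.Agent.H80.K6.Crit
import Cfsg.Agent.Lib.Cores

/-!
# S4876: centralizers with a normal Sylow `p`-subgroup (helper121)

* `mem_of_centralizer` : `Q` a normal Sylow `p`-subgroup of `C`; an element centralizing `Q` is in `Q * O_{p'}(C)`;
* `epsGe_normal` : `P` is a normal Sylow `p`-subgroup of `C_X(x)`; the number of orders of automorphisms of `P` induced by
  `p'`-elements of the same order is at most the orbit weight of `x`.
-/

set_option autoImplicit false

open Cfsg Subgroup

namespace Cfsg.Agent.H121.K6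

open Cfsg.Agent.H61.K6 Cfsg.Agent.H80.K6 Cfsg.Agent.Lib.Cores

universe u v

section

variable {C : Type v} [Group C] [Finite C] {p : ℕ} [hp : Fact p.Prime]

theorem disjoint_core (Q : Subgroup C) (hQ : IsPGroup p Q) : Disjoint Q (pPrimeCore p C) := by
  rw [disjoint_iff]
  obtain ⟨n, hn⟩ := IsPGroup.iff_card.1 hQ
  refine Subgroup.inf_eq_bot_of_coprime ?_
  rw [hn]
  exact (pPrimeCore_coprime (G := C) p).symm.pow_left n

theorem core_comm (Q : Subgroup C) [Q.Normal] (hQ : IsPGroup p Q) {q e : C} (hq : q ∈ Q) (he : e ∈ pPrimeCore p C) :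
    Commute q e := by
  have := pPrimeCore_normal (G := C) p
  exact Subgroup.commute_of_normal_of_disjoint Q (pPrimeCore p C) inferInstance inferInstance (disjoint_core Q hQ) q e hq he

theorem mem_of_centralizer (Q : Subgroup C) [Q.Normal] (hQ : IsPGroup p Q) (hi : ¬ p ∣ Q.index) {g : C}
    (hg : ∀ q ∈ Q, q * g = g * q) : ∃ q ∈ Q, ∃ e ∈ pPrimeCore p C, g = e * q := by
  let A : Subgroup C := centralizer (Q : Set C)
  have hA : A.Normal := inferInstance
  have hgA : g ∈ A := Subgroup.mem_centralizer_iff.2 hg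
  have h1 : IsPGroup p (Q.subgroupOf A) := by
    exact hQ.comap_subtype
  have h2 : ¬ p ∣ (Q.subgroupOf A).index := fun h => hi (h.trans (Subgroup.relIndex_dvd_index_of_normal Q A))
  let S : Sylow p A := h1.toSylow h2
  have hS : (S : Subgroup A) = Q.subgroupOf A := rfl
  have hc : normalizer ((S : Subgroup A) : Set A) ≤ centralizer ((S : Subgroup A) : Set A) := by
    intro a _
    rw [Subgroup.mem_centralizer_iff]
    intro s hs
    apply Subtype.ext
    exact Subgroup.mem_centralizer_iff.1 a.2 s (mem_subgroupOf.1 hs)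
  have h3 := MonoidHom.ker_transferSylow_isComplement' S hc
  set k := (MonoidHom.transferSylow S hc).ker with hk
  have h4 : (Nat.card k).Coprime p := by
    rw [Nat.coprime_comm, Nat.Prime.coprime_iff_not_dvd hp.out]
    rw [← h3.index_eq_card]
    exact S.not_dvd_index
  have h5 : k ≤ pPrimeCore p A := le_pPrimeCore inferInstance h4
  have h6 : (pPrimeCore p A).map A.subtype ≤ pPrimeCore p C := by
    rw [map_subtype_pPrimeCore p hA]
    exact inf_le_right
  obtain ⟨⟨a, b⟩, hab⟩ := h3.2 ⟨g, hgA⟩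
  refine ⟨((b : A) : C), mem_subgroupOf.1 b.2, ((a : A) : C), h6 ⟨a, h5 a.2, rfl⟩, ?_⟩
  exact (congrArg Subtype.val hab).symm

end

/-- **Normal Sylow subgroups of centralizers.** -/
theorem epsGe_normal {p : ℕ} [hp : Fact p.Prime] {X : Type v} [Group X] [Finite X] {x : X} (P : Subgroup X)
    (hPx : P ≤ centralizer ({x} : Set X)) (hP : IsPGroup p P)
    (hi : ¬ p ∣ (P.subgroupOf (centralizer ({x} : Set X))).index)
    (hn : (P.subgroupOf (centralizer ({x} : Set X))).Normal) (O : Finset ℕ)
    (hO : ∀ m ∈ O, ¬ p ∣ m ∧ ∃ y : X, y * x = x * y ∧ y ^ m = 1 ∧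
      ∀ k, 0 < k → k < m → ∃ w ∈ P, w * y ^ k ≠ y ^ k * w) : EpsGe.{u, v} p x O.card := by
  classical
  set C := ↥(centralizer ({x} : Set X)) with hC
  let Q : Subgroup C := P.subgroupOf (centralizer ({x} : Set X))
  have hQn : Q.Normal := hn
  have hQ : IsPGroup p Q := hP.comap_subtype
  have hE := pPrimeCore_normal (G := C) p
  let φ : C →* (C ⧸ pPrimeCore p C) := QuotientGroup.mk' (pPrimeCore p C)
  refine epsGe_quot (p := p) φ (QuotientGroup.mk'_surjective _) ?_ O ?_ (d := 0) ?_ le_rfl
  · intro σ hσ y y' hyy h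
    let τ : C ≃* C := (σ.subgroupMap (centralizer ({x} : Set X))).trans (MulEquiv.subgroupCongr (by
      ext z
      constructor
      · rintro ⟨w, hw, rfl⟩
        have hw' := mem_centralizer_singleton_iff.1 hw
        refine mem_centralizer_singleton_iff.2 ?_
        have := congrArg σ hw'
        rw [map_mul, map_mul, hσ] at this
        exact this
      · intro hz
        have hz' := mem_centralizer_singleton_iff.1 hz
        refine ⟨σ.symm z, mem_centralizer_singleton_iff.2 ?_, σ.apply_symm_apply z⟩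
        apply σ.injective
        rw [map_mul, map_mul, σ.apply_symm_apply, hσ]
        exact hz'))
    have h1 : τ y = y' := Subtype.ext hyy.symm
    have h2 : y ∈ pPrimeCore p C := (QuotientGroup.eq_one_iff y).1 h
    have h3 : y' ∈ pPrimeCore p C := by
      rw [← map_equiv_pPrimeCore τ p]
      exact ⟨y, h2, h1⟩
    exact (QuotientGroup.eq_one_iff y').2 h3
  · intro m hm
    obtain ⟨hm1, y, hyx, hym, hyk⟩ := hO m hm
    refine ⟨hm1, φ ⟨y, mem_centralizer_singleton_iff.2 hyx⟩, ?_⟩
    set y' : C := ⟨y, mem_centralizer_singleton_iff.2 hyx⟩ with hy'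
    have hm0 : 0 < m := Nat.pos_of_ne_zero fun h => hm1 (h ▸ dvd_zero p)
    rw [orderOf_eq_iff hm0]
    constructor
    · rw [← map_pow]
      have : y' ^ m = 1 := Subtype.ext hym
      rw [this, map_one]
    · intro k hk hk0 h
      rw [← map_pow] at h
      have h2 : y' ^ k ∈ pPrimeCore p C := (QuotientGroup.eq_one_iff _).1 h
      obtain ⟨w, hw, hwk⟩ := hyk k hk0 hk
      apply hwk
      have h3 := core_comm Q hQ (q := ⟨w, hPx hw⟩) (mem_subgroupOf.2 hw) h2
      exact congrArg Subtype.val h3.eq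
  · intro M hM
    have hQb : (Q.map φ).Normal := hQn.map φ (QuotientGroup.mk'_surjective _)
    refine (card_not_mem_constrained (Q.map φ) (hQ.map φ) ?_ hM).le
    intro g hg
    obtain ⟨g, rfl⟩ := QuotientGroup.mk'_surjective _ g
    have h1 : ∀ q ∈ Q, q * g = g * q := by
      intro q hq
      have h2 := Subgroup.mem_centralizer_iff.1 hg (φ q) ⟨q, hq, rfl⟩
      have h3 : φ (q * g * q⁻¹ * g⁻¹) = 1 := by
        rw [map_mul, map_mul, map_mul, map_inv, map_inv]
        have h4 : φ q * φ g = φ g * φ q := h2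
        rw [h4, mul_inv_cancel_right, mul_inv_cancel]
      have h4 : q * g * q⁻¹ * g⁻¹ ∈ pPrimeCore p C := (QuotientGroup.eq_one_iff _).1 h3
      have h5 : q * g * q⁻¹ * g⁻¹ ∈ Q := by
        have : q * g * q⁻¹ * g⁻¹ = q * (g * q⁻¹ * g⁻¹) := by group
        rw [this]
        exact Q.mul_mem hq (hQn.conj_mem _ (Q.inv_mem hq) g)
      have h6 := Subgroup.disjoint_def.1 (disjoint_core Q hQ) h5 h4
      calc q * g = (q * g * q⁻¹ * g⁻¹) * (g * q) := by rw [← mul_assoc, inv_mul_cancel_right, inv_mul_cancel_right]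
        _ = g * q := by rw [h6, one_mul]
    obtain ⟨q, hq, e, he, rfl⟩ := mem_of_centralizer Q hQ hi h1
    refine ⟨q, hq, ?_⟩
    change φ q = φ (e * q)
    rw [map_mul, show φ e = 1 from (QuotientGroup.eq_one_iff _).2 he, one_mul]

end Cfsg.Agent.H121.K6
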