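import Cfsg.Agent.H61.K6.Base

/-!
# S4876: tools for the sporadic rows (helper121)

* `eq_one_of_inv` : in a group of odd order an element conjugate to its inverse is trivial;
* `not_compl_of_inv` : a `p`-element (`p` odd) conjugate to its inverse excludes a normal `p`-complement;
* `wtGe_two_of_inv` : weight 2 of `x` if `y`, `n` commute with `x` and `n y n⁻¹ = y⁻¹`, `y` a nontrivial `p`-element.
-/

set_option autoImplicit false

open Cfsg

namespace Cfsg.Agent.H121.K6

open Cfsg.Agent.H61.K6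

/-- In a group of odd order an element conjugate to its inverse is trivial. -/
theorem eq_one_of_inv {Q : Type*} [Group Q] (hQ : Odd (Nat.card Q)) {y n : Q} (h : n * y * n⁻¹ = y⁻¹) : y = 1 := by
  have key : ∀ k : ℕ, n ^ (2 * k) * y * (n ^ (2 * k))⁻¹ = y := by
    intro k
    induction k with
    | zero => simp
    | succ k ih =>
      have h1 : n ^ (2 * (k + 1)) = n * (n * n ^ (2 * k)) := by
        rw [mul_add, mul_one, pow_succ', pow_succ']
      rw [h1]
      calc n * (n * n ^ (2 * k)) * y * (n * (n * n ^ (2 * k)))⁻¹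
          = n * (n * (n ^ (2 * k) * y * (n ^ (2 * k))⁻¹) * n⁻¹) * n⁻¹ := by group
        _ = n * (n * y * n⁻¹) * n⁻¹ := by rw [ih]
        _ = n * y⁻¹ * n⁻¹ := by rw [h]
        _ = (n * y * n⁻¹)⁻¹ := by group
        _ = y := by rw [h, inv_inv]
  obtain ⟨k, hk⟩ := hQ
  have h1 : n ^ (2 * k) = n⁻¹ := by
    have h2 : n ^ (2 * k + 1) = 1 := by rw [← hk]; exact pow_card_eq_one'
    rw [pow_succ] at h2
    exact eq_inv_of_mul_eq_one_left h2
  have h3 := key k
  rw [h1, inv_inv] at h3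
  -- n⁻¹ y n = y, so y = y⁻¹
  have h4 : y⁻¹ = y := by
    rw [← h]
    calc n * y * n⁻¹ = n * (n⁻¹ * y * n) * n⁻¹ := by rw [h3]
      _ = y := by group
  have h5 : y ^ 2 = 1 := by
    rw [pow_two]
    nth_rewrite 1 [← h4]
    exact inv_mul_cancel y
  have h6 := orderOf_dvd_of_pow_eq_one h5
  have h7 : orderOf y ∣ 2 * k + 1 := by rw [← hk]; exact orderOf_dvd_natCard y
  have h8 : orderOf y ∣ 1 := by
    have h9 : orderOf y ∣ 2 * k := h6.mul_right k
    exact (Nat.dvd_add_right h9).1 h7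
  rw [← orderOf_eq_one_iff]
  exact Nat.dvd_one.1 h8

theorem not_compl_of_inv {p : ℕ} (hp : p.Prime) (hp2 : p ≠ 2) {C : Type*} [Group C] [Finite C] {y n : C} {k : ℕ}
    (hy : y ^ p ^ k = 1) (hy1 : y ≠ 1) (h : n * y * n⁻¹ = y⁻¹) : ¬ HasNormalPComplement p C := by
  have : Fact p.Prime := ⟨hp⟩
  rintro ⟨P, N, hN, hc⟩
  have hcard : Nat.card (C ⧸ N) = Nat.card (P : Subgroup C) := by
    rw [← Subgroup.index_eq_card]
    exact hc.symm.index_eq_card
  obtain ⟨m, hm⟩ := IsPGroup.iff_card.1 P.isPGroup'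
  have hodd : Odd (Nat.card (C ⧸ N)) := by
    rw [hcard, hm]
    exact (hp.odd_of_ne_two hp2).pow
  have h1 : ((y : C) : C ⧸ N) = 1 := by
    refine eq_one_of_inv hodd (n := ((n : C) : C ⧸ N)) ?_
    rw [← QuotientGroup.mk_inv, ← QuotientGroup.mk_inv, ← QuotientGroup.mk_mul, ← QuotientGroup.mk_mul, h]
  have h2 : y ∈ N := (QuotientGroup.eq_one_iff y).1 h1
  have h3 : ¬ p ∣ Nat.card N := by
    have h4 := P.not_dvd_index
    have h5 : (P : Subgroup C).index = Nat.card N := hc.index_eq_card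
    rwa [h5] at h4
  have h6 : orderOf y ∣ p ^ k := orderOf_dvd_of_pow_eq_one hy
  obtain ⟨j, -, hj⟩ := (Nat.dvd_prime_pow hp).1 h6
  have h7 : orderOf y ∣ Nat.card N := by
    have := orderOf_dvd_natCard (⟨y, h2⟩ : N)
    rwa [Subgroup.orderOf_mk] at this
  have h8 : j = 0 := by
    by_contra hj0
    apply h3
    refine (dvd_trans ?_ h7)
    rw [hj]
    exact dvd_pow_self p hj0
  rw [h8, pow_zero, orderOf_eq_one_iff] at hj
  exact hy1 hj

/-- weight 2 in `X` -/
theorem wt_eq_two_of_inv {p : ℕ} (hp : p.Prime) (hp2 : p ≠ 2) {X : Type*} [Group X] [Finite X] {x y n : X} {k : ℕ}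
    (hyx : y * x = x * y) (hnx : n * x = x * n) (hy : y ^ p ^ k = 1) (hy1 : y ≠ 1) (h : n * y * n⁻¹ = y⁻¹) :
    wt p x = 2 := by
  refine wt_eq_two ?_
  refine not_compl_of_inv hp hp2 (k := k)
    (y := (⟨y, Subgroup.mem_centralizer_singleton_iff.2 hyx⟩ : ↥(Subgroup.centralizer ({x} : Set X))))
    (n := (⟨n, Subgroup.mem_centralizer_singleton_iff.2 hnx⟩ : ↥(Subgroup.centralizer ({x} : Set X)))) ?_ ?_ ?_
  · apply Subtype.ext
    simpa using hy
  · intro h1
    exact hy1 (congrArg Subtype.val h1)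
  · apply Subtype.ext
    simpa using h

end Cfsg.Agent.H121.K6
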