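import Cfsg.Agent.H121.K6.CoMat
import Cfsg.Agent.H121.K6.Normal
import Cfsg.Agent.H121.K6.Syl
import Cfsg.Agent.H121.K6.Tools
import Cfsg.Agent.H49.McLFive
import Cfsg.Agent.H51.Tools
import Cfsg.Agent.BpSpor.CoThreeFive

/-!
# S4876, `p = 5`: the row of `Co3` (helper121)

`z = [x, y]` central in the Sylow subgroup `⟨x, y⟩`: weight 5 (`⟨x, y⟩` is normal in `C(z)`, elements of orders 4 and 6).
-/

set_option autoImplicit false
set_option maxRecDepth 20000

open Cfsg Subgroup

namespace Cfsg.Agent.H121.K6.Co3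

open Cfsg.Agent.SporadicA Cfsg.Agent.SporadicStructure.Co0Matrix Cfsg.Agent.CoOneType.CoEval
open Cfsg.Agent.CoOneType.CoFast Cfsg.Agent.LThreeCo1.Ev Cfsg.Agent.H49.Stab Cfsg.Agent.H49.MatMcL
open Cfsg.Agent.H49.CoThreeThree (vL vecV_eq)
open Cfsg.Agent.H61.K6 Cfsg.Agent.H80.K6 Cfsg.Agent.H121.K6.CoMat
open scoped commutatorElement

universe u v

theorem k_fix : apZ R4 vL = vL ∧ apZ R6 vL = vL := by decide +kernel

theorem fix (i : ℕ) : (el okM3 i).1 Spor.leechV = Spor.leechV := by
  apply Subtype.ext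
  refine (Rep.apply (rep_mk (okM3 i)) (l := vL) (by decide) vecV_eq).trans ?_
  rw [← apZ_eq, vecV_eq]
  congr 1
  obtain ⟨h1, h2, h3⟩ := Cfsg.Agent.H49.McLFive.k_fixV
  obtain ⟨h4, h6⟩ := k_fix
  unfold M3
  split <;> assumption

/-- the group -/
abbrev G : Type := Spor.Co3

/-- the letters -/
noncomputable def e (i : ℕ) : G := xs okM3 fix i

theorem W {w w' : List ℕ} (h : eqB (xM M3) w w' = true) : (w.map e).prod = (w'.map e).prod := word_eq okM3 fix h

theorem N {w w' : List ℕ} (h : neB' (xM M3) w w' = true) : (w.map e).prod ≠ (w'.map e).prod := word_ne okM3 fix h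

theorem e33 : e 33 = (e 1)⁻¹ := xs_inv okM3 fix (i := 1) (by norm_num)
theorem e34 : e 34 = (e 2)⁻¹ := xs_inv okM3 fix (i := 2) (by norm_num)

theorem c1 : eqB (xM M3) (List.replicate 5 1) [] = true := by decide +kernel
theorem c2 : eqB (xM M3) (List.replicate 5 2) [] = true := by decide +kernel
theorem c3 : eqB (xM M3) [1, 2, 33, 34, 1] [1, 1, 2, 33, 34] = true := by decide +kernel
theorem c4 : eqB (xM M3) [1, 2, 33, 34, 2] [2, 1, 2, 33, 34] = true := by decide +kernel
theorem c5 : neB' (xM M3) [1, 2, 33, 34] [] = true := by decide +kernel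
theorem c6 : eqB (xM M3) [3, 1] [33, 3] = true := by decide +kernel
theorem c7 : eqB (xM M3) [3, 1, 2, 33, 34] [1, 2, 33, 34, 3] = true := by decide +kernel
theorem d1 : eqB (xM M3) [4, 1] [1, 1, 1, 2, 2, 4] = true := by decide +kernel
theorem d2 : eqB (xM M3) [4, 2] [2, 2, 4] = true := by decide +kernel
theorem d3 : eqB (xM M3) [4, 1, 2, 33, 34] [1, 2, 33, 34, 4] = true := by decide +kernel
theorem d4 : eqB (xM M3) [4, 4, 4, 4] [] = true := by decide +kernel
theorem f1 : eqB (xM M3) [6, 1] [1, 1, 1, 1, 2, 6] = true := by decide +kernel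
theorem f2 : eqB (xM M3) [6, 2] [1, 1, 2, 2, 6] = true := by decide +kernel
theorem f3 : eqB (xM M3) [6, 1, 2, 33, 34] [1, 2, 33, 34, 6] = true := by decide +kernel
theorem f4 : eqB (xM M3) [6, 6, 6, 6, 6, 6] [] = true := by decide +kernel
theorem n1 : ∀ k : Fin 3, neB' (xM M3) (1 :: List.replicate (k + 1) 4) (List.replicate (k + 1) 4 ++ [1]) = true := by
  decide +kernel
theorem n2 : ∀ k : Fin 5, neB' (xM M3) (1 :: List.replicate (k + 1) 6) (List.replicate (k + 1) 6 ++ [1]) = true := by
  decide +kernel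

/-- generator -/
noncomputable def x : G := e 1
/-- generator -/
noncomputable def y : G := e 2
/-- the central element -/
noncomputable def z : G := ⁅x, y⁆

theorem z_word : (([1, 2, 33, 34] : List ℕ).map e).prod = z := by
  simp only [List.map_cons, List.map_nil, List.prod_cons, List.prod_nil, mul_one, e33, e34]
  rw [z, commutatorElement_def, x, y]
  simp only [mul_assoc]

theorem hcons (i : ℕ) (l : List ℕ) : ((i :: l).map e).prod = e i * (l.map e).prod := by
  rw [List.map_cons, List.prod_cons]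

theorem happ (l l' : List ℕ) : ((l ++ l').map e).prod = (l.map e).prod * (l'.map e).prod := by
  rw [List.map_append, List.prod_append]

theorem hone (i : ℕ) : (([i] : List ℕ).map e).prod = e i := by simp

theorem x5 : x ^ 5 = 1 := by
  have := W c1
  rwa [List.map_replicate, List.prod_replicate] at this

theorem y5 : y ^ 5 = 1 := by
  have := W c2
  rwa [List.map_replicate, List.prod_replicate] at this

theorem zx : z * x = x * z := by
  have h1 : (([1, 2, 33, 34] ++ [1] : List ℕ).map e).prod = (([1] ++ [1, 2, 33, 34] : List ℕ).map e).prod := W c3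
  rwa [happ, happ, z_word, hone] at h1

theorem zy : z * y = y * z := by
  have h1 : (([1, 2, 33, 34] ++ [2] : List ℕ).map e).prod = (([2] ++ [1, 2, 33, 34] : List ℕ).map e).prod := W c4
  rwa [happ, happ, z_word, hone] at h1

theorem z_ne : z ≠ 1 := by
  have := N c5
  rw [z_word] at this
  exact this

/-- the Sylow subgroup -/
noncomputable abbrev P : Subgroup G := closure {x, y}

theorem xP : x ∈ P := subset_closure (Or.inl rfl)
theorem yP : y ∈ P := subset_closure (Or.inr rfl)
theorem zP : z ∈ P := by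
  rw [z, commutatorElement_def]
  exact P.mul_mem (P.mul_mem (P.mul_mem xP yP) (P.inv_mem xP)) (P.inv_mem yP)

instance finG : Finite G := CpAutCoFive.finite_co3

theorem z5 : z ^ 5 = 1 := Cfsg.Agent.H51.Tools.pow_comm_eq_one x5 zx zy

theorem isPGroup : IsPGroup 5 P := by
  have : Fact (Nat.Prime 5) := ⟨Nat.prime_five⟩
  exact Cfsg.Agent.H51.Tools.isPGroup_closure x5 y5 z5 zx zy

theorem order_z : orderOf z = 5 := by
  have : Fact (Nat.Prime 5) := ⟨Nat.prime_five⟩
  exact orderOf_eq_prime z5 z_ne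

theorem card_P : 125 ∣ Nat.card P := by
  have := Cfsg.Agent.H51.Tools.cube_dvd_card Nat.prime_five x5 y5 zx zy z_ne
  norm_num at this
  exact this

theorem P_le : P ≤ centralizer ({z} : Set G) := by
  rw [closure_le]
  rintro g (rfl | rfl)
  · exact mem_centralizer_singleton_iff.2 zx.symm
  · exact mem_centralizer_singleton_iff.2 zy.symm

theorem zcomm {i : ℕ} (h : eqB (xM M3) [i, 1, 2, 33, 34] [1, 2, 33, 34, i] = true) : e i * z = z * e i := by
  have h1 : (([i] ++ [1, 2, 33, 34] : List ℕ).map e).prod = (([1, 2, 33, 34] ++ [i] : List ℕ).map e).prod := W h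
  rwa [happ, happ, z_word, hone] at h1

theorem mem_of_word {i j : ℕ} {w : List ℕ} (hw : ∀ k ∈ w, k = 1 ∨ k = 2) (h : e i * e j = (w.map e).prod * e i) :
    e i * e j * (e i)⁻¹ ∈ P := by
  rw [h, mul_inv_cancel_right]
  apply list_prod_mem
  intro g hg
  obtain ⟨k, hk, rfl⟩ := List.mem_map.1 hg
  rcases hw k hk with rfl | rfl
  · exact xP
  · exact yP

theorem norm_b : e 4 ∈ normalizer (P : Set G) := by
  refine mem_normalizer_closure ?_
  rintro g (rfl | rfl)
  · refine mem_of_word (w := [1, 1, 1, 2, 2]) (by decide) ?_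
    have h1 : (([4] ++ [1] : List ℕ).map e).prod = (([1, 1, 1, 2, 2] ++ [4] : List ℕ).map e).prod := W d1
    rwa [happ, happ, hone, hone] at h1
  · refine mem_of_word (w := [2, 2]) (by decide) ?_
    have h1 : (([4] ++ [2] : List ℕ).map e).prod = (([2, 2] ++ [4] : List ℕ).map e).prod := W d2
    rwa [happ, happ, hone, hone] at h1

theorem norm_d : e 6 ∈ normalizer (P : Set G) := by
  refine mem_normalizer_closure ?_
  rintro g (rfl | rfl)
  · refine mem_of_word (w := [1, 1, 1, 1, 2]) (by decide) ?_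
    have h1 : (([6] ++ [1] : List ℕ).map e).prod = (([1, 1, 1, 1, 2] ++ [6] : List ℕ).map e).prod := W f1
    rwa [happ, happ, hone, hone] at h1
  · refine mem_of_word (w := [1, 1, 2, 2]) (by decide) ?_
    have h1 : (([6] ++ [2] : List ℕ).map e).prod = (([1, 1, 2, 2] ++ [6] : List ℕ).map e).prod := W f2
    rwa [happ, happ, hone, hone] at h1

theorem b4 : (e 4) ^ 4 = 1 := by
  have h1 : ((List.replicate 4 4).map e).prod = (([] : List ℕ).map e).prod := W d4
  rwa [List.map_replicate, List.prod_replicate] at h1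

theorem d6 : (e 6) ^ 6 = 1 := by
  have h1 : ((List.replicate 6 6).map e).prod = (([] : List ℕ).map e).prod := W f4
  rwa [List.map_replicate, List.prod_replicate] at h1

theorem ne_of {i k : ℕ} (h : neB' (xM M3) (1 :: List.replicate k i) (List.replicate k i ++ [1]) = true) :
    x * e i ^ k ≠ e i ^ k * x := by
  have h1 : (([1] ++ List.replicate k i : List ℕ).map e).prod ≠ ((List.replicate k i ++ [1] : List ℕ).map e).prod := N h
  rwa [happ, happ, List.map_replicate, List.prod_replicate, hone] at h1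

theorem b_ne (k : ℕ) (h0 : 0 < k) (h4 : k < 4) : x * e 4 ^ k ≠ e 4 ^ k * x := by
  have := n1 ⟨k - 1, by omega⟩
  simp only at this
  rw [show k - 1 + 1 = k by omega] at this
  exact ne_of this

theorem d_ne (k : ℕ) (h0 : 0 < k) (h6 : k < 6) : x * e 6 ^ k ≠ e 6 ^ k * x := by
  have := n2 ⟨k - 1, by omega⟩
  simp only at this
  rw [show k - 1 + 1 = k by omega] at this
  exact ne_of this

theorem order_b : orderOf (e 4) = 4 := by
  rw [orderOf_eq_iff (by norm_num)]
  refine ⟨b4, fun k h4 h0 h => b_ne k h0 h4 ?_⟩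
  rw [h, mul_one, one_mul]

theorem order_d2 : orderOf (e 6 ^ 2) = 3 := by
  rw [orderOf_eq_iff (by norm_num)]
  refine ⟨by rw [← pow_mul]; exact d6, fun k h3 h0 h => d_ne (2 * k) (by omega) (by omega) ?_⟩
  rw [pow_mul, h, mul_one, one_mul]

theorem card_C : Nat.card ↥(centralizer ({z} : Set G)) ∣ 1500 * 8 := by
  have := BpSpor.CoThreeFive.card_dvd order_z
  norm_num at this ⊢
  exact this

theorem idx : ¬ 5 ∣ (P.subgroupOf (centralizer ({z} : Set G))).index := by
  have : Fact (Nat.Prime 5) := ⟨Nat.prime_five⟩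
  refine index_not_dvd (n := 3) P_le (by rw [show 5 ^ 3 = 125 by norm_num]; exact card_P) fun h => ?_
  have h1 := h.trans card_C
  norm_num at h1

theorem P_normal : (P.subgroupOf (centralizer ({z} : Set G))).Normal := by
  have : Fact (Nat.Prime 5) := ⟨Nat.prime_five⟩
  refine normal_of_card (m := 1500) (k := 8) P_le isPGroup idx (by norm_num) ?_ card_C ?_
  · have h1 : 125 ∣ Nat.card ↥(normalizer (P : Set G) ⊓ centralizer ({z} : Set G)) :=
      card_P.trans (Subgroup.card_dvd_of_le (le_inf Subgroup.le_normalizer P_le))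
    have h2 : 4 ∣ Nat.card ↥(normalizer (P : Set G) ⊓ centralizer ({z} : Set G)) :=
      dvd_of_mem ⟨norm_b, mem_centralizer_singleton_iff.2 (zcomm d3)⟩ order_b
    have h3 : 3 ∣ Nat.card ↥(normalizer (P : Set G) ⊓ centralizer ({z} : Set G)) :=
      dvd_of_mem ⟨Subgroup.pow_mem _ norm_d 2, Subgroup.pow_mem _ (mem_centralizer_singleton_iff.2 (zcomm f3)) 2⟩ order_d2
    have h4 : 4 * 3 ∣ Nat.card ↥(normalizer (P : Set G) ⊓ centralizer ({z} : Set G)) :=
      (by norm_num : Nat.Coprime 4 3).mul_dvd_of_dvd_of_dvd h2 h3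
    exact (by norm_num : Nat.Coprime 125 12).mul_dvd_of_dvd_of_dvd h1 h4
  · intro d hd h5
    have h6 := Nat.le_of_dvd (by norm_num) hd
    interval_cases d <;> revert hd h5 <;> decide

theorem eps_z : EpsGe.{u, 0} 5 z 5 := by
  have : Fact (Nat.Prime 5) := ⟨Nat.prime_five⟩
  have hb : ∀ j : ℕ, e 4 ^ j * z = z * e 4 ^ j := fun j => ((show Commute (e 4) z from zcomm d3).pow_left j).eq
  have hd : ∀ j : ℕ, e 6 ^ j * z = z * e 6 ^ j := fun j => ((show Commute (e 6) z from zcomm f3).pow_left j).eq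
  refine epsGe_normal (O := {1, 2, 3, 4, 6}) P P_le isPGroup idx P_normal ?_
  intro m hm
  simp only [Finset.mem_insert, Finset.mem_singleton] at hm
  rcases hm with rfl | rfl | rfl | rfl | rfl
  · exact ⟨by norm_num, 1, by simp, by simp, fun k h0 h1 => absurd h1 (by omega)⟩
  · refine ⟨by norm_num, e 4 ^ 2, hb 2, by rw [← pow_mul]; exact b4, fun k h0 h1 => ⟨x, xP, ?_⟩⟩
    rw [← pow_mul]
    exact b_ne _ (by omega) (by omega)
  · refine ⟨by norm_num, e 6 ^ 2, hd 2, by rw [← pow_mul]; exact d6, fun k h0 h1 => ⟨x, xP, ?_⟩⟩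
    rw [← pow_mul]
    exact d_ne _ (by omega) (by omega)
  · exact ⟨by norm_num, e 4, by simpa using hb 1, b4, fun k h0 h1 => ⟨x, xP, b_ne k h0 h1⟩⟩
  · exact ⟨by norm_num, e 6, by simpa using hd 1, d6, fun k h0 h1 => ⟨x, xP, d_ne k h0 h1⟩⟩

theorem row_G : KRow.{u, 0} 5 G := by
  classical
  have : Fact (Nat.Prime 5) := ⟨Nat.prime_five⟩
  have hX : ¬ HasNormalPComplement 5 G := by
    refine not_compl_of_inv Nat.prime_five (by norm_num) (k := 1) (y := x) (n := e 3)
      (by rw [pow_one]; exact x5) ?_ ?_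
    · intro h
      apply z_ne
      rw [z, h, commutatorElement_def]
      simp
    · have h1 : (([3] ++ [1] : List ℕ).map e).prod = (([33] ++ [3] : List ℕ).map e).prod := W c6
      rw [happ, happ, hone, hone, hone, e33] at h1
      rw [x, h1, mul_inv_cancel_right]
  refine KRow.of_weights hX {z} ?_ ?_ (fun _ => 5) ?_ ?_
  · intro g hg
    rw [Finset.mem_singleton] at hg
    subst hg
    exact ⟨⟨1, by rw [order_z, pow_one]⟩, z_ne⟩
  · intro g hg h hh σ hσ
    rw [Finset.mem_singleton] at hg hh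
    rw [hg, hh]
  · intro g hg
    rw [Finset.mem_singleton] at hg
    subst hg
    exact eps_z.wtGe
  · simp

/-- **The row of `Co3`.** -/
theorem row_co3 {X : Type v} [Group X] (h : Cfsg.Spor.IsoCo3 X) : KRow.{u, v} 5 X := by
  obtain ⟨e⟩ := h
  exact KRow.congr e.symm row_G

end Cfsg.Agent.H121.K6.Co3
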