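import Cfsg.Agent.H49.MatMcL

/-!
# More elements of `Co2` and `Co3` (helper121)

`R1`, `R2` generate `5^(1+2)` (`H49.MatMcL`); `R4` of order 4 and `R6` of order 6 centralize its centre and fix `leechV`;
`R5` of order 4 commutes with `R1`, squares `R2` and fixes `leechU`.
-/

set_option autoImplicit false
set_option maxRecDepth 20000

namespace Cfsg.Agent.H121.K6.CoMat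

open Cfsg.Agent.LThreeCo1.Ev Cfsg.Agent.SporadicStructure.Co0Matrix Cfsg.Agent.CoOneType.CoEval
open Cfsg.Agent.H49.MatMcL

/-- matrix (times 8) -/
def R4 : List (List ℤ) := [
  [-4, 2, 0, 2, 2, 0, 2, 0, 2, 0, 0, 2, 2, 2, 0, 0, 0, 2, 2, 2, 0, 0, 0, -2],
  [0, -2, 0, 2, -2, 0, -2, 0, 2, -4, 0, 2, -2, 2, 0, 0, 0, -2, 2, 2, 0, 0, 0, 2],
  [0, -2, -4, 2, 2, 0, 2, 0, -2, 0, 0, -2, -2, 2, 0, 0, 0, 2, -2, 2, 0, 0, 0, 2],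
  [0, 2, 0, -2, -2, -4, 2, 0, 2, 0, 0, 2, -2, -2, 0, 0, 0, 2, -2, 2, 0, 0, 0, 2],
  [0, 2, 0, 2, -2, 0, -2, 0, -2, 0, 0, 2, 2, 2, 0, 0, -4, 2, -2, -2, 0, 0, 0, 2],
  [0, 2, 0, -2, 2, 0, 2, -4, -2, 0, 0, 2, -2, 2, 0, 0, 0, -2, 2, -2, 0, 0, 0, 2],
  [2, 0, -2, 0, 0, 2, 0, -2, 4, 2, -2, 0, 0, 0, -2, 2, -2, 0, 0, 0, 2, 2, 2, 0],
  [2, 0, 2, 4, 0, -2, 0, -2, 0, 2, -2, 0, 0, 0, 2, 2, 2, 0, 0, 0, -2, -2, 2, 0],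
  [2, 0, -2, 0, 0, -2, 0, 2, 0, 2, 2, 0, 0, 0, 2, -2, -2, 0, 4, 0, 2, -2, 2, 0],
  [0, -2, 0, 2, 2, 0, 2, 0, 2, 0, 0, 2, 2, -2, 0, -4, 0, -2, -2, -2, 0, 0, 0, 2],
  [0, -2, 0, -2, 2, 0, -2, 0, -2, 0, -4, 2, 2, -2, 0, 0, 0, 2, 2, 2, 0, 0, 0, 2],
  [0, 2, 0, 2, -2, 0, 2, 0, -2, 0, 0, -2, 2, -2, -4, 0, 0, -2, 2, 2, 0, 0, 0, 2],
  [2, 0, 2, 0, 0, -2, 0, 2, 0, 2, -2, 0, 0, 4, -2, -2, 2, 0, 0, 0, 2, 2, -2, 0],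
  [2, 0, 2, 0, 0, 2, 0, -2, 0, -2, 2, 0, 0, 0, -2, -2, 2, 4, 0, 0, 2, -2, 2, 0],
  [0, 2, 0, 2, 2, 0, -2, 0, 2, 0, 0, -2, -2, -2, 0, 0, 0, 2, 2, -2, 0, 0, -4, 2],
  [2, 4, -2, 0, 0, 2, 0, 2, 0, -2, -2, 0, 0, 0, 2, -2, 2, 0, 0, 0, -2, 2, 2, 0],
  [2, 0, 2, 0, 0, 2, 0, -2, 0, 2, 2, 0, 0, 0, 2, -2, -2, 0, 0, 4, -2, 2, -2, 0],
  [2, 0, -2, 0, 0, -2, 0, -2, 0, -2, 2, 0, 4, 0, 2, 2, 2, 0, 0, 0, 2, 2, -2, 0],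
  [2, 0, 2, 0, 0, 2, 4, 2, 0, -2, -2, 0, 0, 0, 2, 2, -2, 0, 0, 0, 2, -2, -2, 0],
  [2, 0, 2, 0, 4, -2, 0, 2, 0, -2, 2, 0, 0, 0, -2, 2, -2, 0, 0, 0, -2, 2, 2, 0],
  [0, -2, 0, -2, -2, 0, 2, 0, 2, 0, 0, -2, 2, 2, 0, 0, 0, 2, 2, -2, -4, 0, 0, 2],
  [0, 2, 0, -2, 2, 0, -2, 0, 2, 0, 0, -2, 2, 2, 0, 0, 0, -2, -2, 2, 0, -4, 0, 2],
  [2, 0, -2, 0, 0, 2, 0, 2, 0, 2, 2, 4, 0, 0, -2, 2, 2, 0, 0, 0, -2, -2, -2, 0],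
  [-2, 0, 2, 0, 0, 2, 0, 2, 0, 2, 2, 0, 0, 0, 2, 2, 2, 0, 0, 0, 2, 2, 2, 4]]

theorem ok4 : Ok R4 (tr R4) := Cfsg.Agent.CoOneType.CoFast.ok_of_okZ (by decide +kernel)

/-- matrix (times 8) -/
def R5 : List (List ℤ) := [
  [3, 1, 1, 1, 1, 1, 1, 1, 1, -1, -1, 1, 1, 1, -1, -1, -1, 1, 3, -1, 1, 1, 1, 5],
  [-1, 1, 1, -3, 1, 1, -3, 1, 1, -1, -1, -3, 1, 1, -1, -1, -1, -3, -1, -1, 1, -3, 1, 1],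
  [-3, -1, -1, -1, -1, -1, -1, -1, -1, 1, 1, -1, -1, -1, 1, 1, 1, -1, 5, 1, -1, -1, -1, 3],
  [-1, 1, 1, 1, 1, -3, 1, 1, -3, 3, 3, 1, 1, 1, -1, -1, -1, -3, -1, -1, 1, 1, 1, 1],
  [-1, 1, 1, 1, 1, 1, 1, -3, -3, -1, -1, 1, 1, -3, -1, -1, -1, 1, -1, -1, 1, -3, -3, 1],
  [-1, 1, 1, 1, 1, 1, 1, 1, 1, -1, -1, 1, -3, 1, 3, -1, 3, -3, -1, -1, 1, 1, -3, 1],
  [1, -1, 3, 3, -1, -1, -1, -1, -1, 1, -3, -1, -1, -1, 1, 1, 1, -1, 1, -3, -1, -1, 3, -1],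
  [-1, 1, 1, -3, -3, -3, 1, 1, 1, -1, -1, 1, -3, -3, -1, -1, -1, 1, -1, -1, 1, 1, 1, 1],
  [-1, 1, 1, 1, -3, 1, -3, 1, -3, -1, -1, 1, 1, 1, -1, -1, 3, 1, -1, 3, 1, 1, 1, 1],
  [-1, -3, -3, 1, 1, 1, 1, 1, -3, -1, -1, -3, -3, 1, -1, -1, -1, 1, -1, -1, 1, 1, 1, 1],
  [1, -1, -1, -1, 3, -1, -1, -1, -1, -3, 1, 3, -1, -1, 1, -3, 1, -1, 1, 1, -1, -1, 3, -1],
  [-1, -3, 1, 1, 1, -3, -3, 1, 1, -1, -1, 1, 1, 1, -1, -1, -1, 1, -1, -1, -3, 1, -3, 1],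
  [-1, 1, 1, 1, 1, 1, -3, -3, 1, -1, 3, 1, -3, 1, -1, 3, -1, 1, -1, -1, 1, 1, 1, 1],
  [1, -1, 3, -1, -1, 3, -1, -1, -1, 1, 1, -1, -1, -1, 1, -3, -3, -1, 1, 1, -1, 3, -1, -1],
  [-1, 1, -3, 1, -3, 1, 1, -3, 1, -1, -1, 1, 1, 1, -1, -1, -1, -3, -1, -1, -3, 1, 1, 1],
  [1, -1, -1, -1, -1, 3, -1, 3, -1, 1, 1, 3, -1, -1, -3, 1, 1, -1, 1, -3, -1, -1, -1, -1],
  [1, 3, -1, -1, 3, -1, -1, -1, -1, 1, -3, -1, -1, -1, -3, 1, 1, -1, 1, 1, -1, 3, -1, -1],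
  [-1, -3, 1, 1, 1, 1, 1, 1, 1, -1, -1, 1, 1, -3, -1, 3, -1, -3, -1, 3, 1, 1, 1, 1],
  [-1, 1, -3, 1, 1, 1, -3, 1, 1, 3, -1, 1, 1, -3, 3, -1, -1, 1, -1, -1, 1, 1, 1, 1],
  [1, 3, -1, 3, -1, -1, -1, 3, -1, -3, 1, -1, -1, -1, 1, 1, -3, -1, 1, 1, -1, -1, -1, -1],
  [-1, 1, 1, 1, 1, 1, 1, 1, 1, -1, 3, -3, 1, -3, -1, -1, 3, 1, -1, -1, -3, 1, 1, 1],
  [-1, 1, 1, -3, 1, 1, 1, 1, -3, -1, -1, 1, 1, 1, 3, 3, -1, 1, -1, -1, -3, 1, 1, 1],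
  [-1, 1, 1, 1, 1, 1, 1, 1, 1, 3, -1, 1, -3, 1, -1, -1, -1, 1, -1, 3, -3, -3, 1, 1],
  [5, -1, -1, -1, -1, -1, -1, -1, -1, 1, 1, -1, -1, -1, 1, 1, 1, -1, -3, 1, -1, -1, -1, 3]]

theorem ok5 : Ok R5 (tr R5) := Cfsg.Agent.CoOneType.CoFast.ok_of_okZ (by decide +kernel)

/-- matrix (times 8) -/
def R6 : List (List ℤ) := [
  [5, -1, 1, -1, 1, 1, -1, 1, -1, -1, -1, -1, -1, -3, 1, -1, -1, -1, -1, -1, -1, 1, -1, 3],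
  [-1, 1, -1, 1, -1, 3, 1, -1, 1, 1, -3, 1, 1, -1, 3, -3, 1, 1, 1, 1, 1, -1, -3, 1],
  [-1, 1, -1, 1, 3, -1, 1, -1, -3, 1, 1, -3, 1, -1, 3, 1, 1, -3, 1, 1, 1, -1, 1, 1],
  [-1, -3, -1, 1, -1, -1, 1, 3, 1, 1, 1, 1, -3, -1, 3, 1, 1, 1, 1, 1, -3, -1, 1, 1],
  [1, -1, 1, -1, 1, 1, -1, 1, -1, -1, 3, 3, -1, 1, 1, -1, 3, -1, 3, -1, 3, 1, -1, -1],
  [-3, -1, 1, -1, 1, 1, -1, 1, -1, -1, -1, -1, -1, 5, 1, -1, -1, -1, -1, -1, -1, 1, -1, 3],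
  [-1, -3, -1, 1, -1, 3, 1, -1, 1, -3, 1, -3, 1, -1, -1, 1, 1, 1, 1, 1, 1, 3, 1, 1],
  [-1, 1, -1, 1, 3, -1, 1, 3, 1, -3, -3, 1, 1, -1, -1, 1, 1, 1, 1, -3, 1, -1, 1, 1],
  [-1, 1, 3, 1, -1, -1, 1, -1, 1, 1, -3, 1, -3, -1, -1, 1, 1, -3, 1, 1, 1, 3, 1, 1],
  [-1, -3, 3, 1, 3, -1, 1, -1, 1, 1, 1, 1, 1, -1, -1, 1, -3, 1, 1, 1, 1, -1, -3, 1],
  [-1, 1, 3, -3, -1, -1, 1, 3, 1, 1, 1, -3, 1, -1, -1, -3, 1, 1, 1, 1, 1, -1, 1, 1],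
  [1, -1, 1, -1, 1, 1, 3, 1, -1, -1, -1, 3, 3, 1, 1, -1, -1, -1, -1, 3, -1, 1, 3, -1],
  [-1, 1, -1, 1, 3, -1, -3, -1, 1, 1, 1, 1, 1, -1, -1, -3, 1, 1, 1, 1, -3, 3, 1, 1],
  [1, -1, 1, 3, 1, 1, -1, 1, -1, 3, -1, -1, -1, 1, 1, -1, -1, 3, -1, -1, 3, 1, 3, -1],
  [-1, 1, -1, -3, -1, -1, 1, -1, 1, 1, 1, 1, 1, -1, 3, 1, -3, 1, 1, -3, 1, 3, 1, 1],
  [1, 3, 1, 3, 1, 1, 3, 1, 3, -1, 3, -1, -1, 1, 1, -1, -1, -1, -1, -1, -1, 1, -1, -1],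
  [1, -1, 1, -1, 1, 1, -1, 1, 3, 3, -1, -1, 3, 1, 1, 3, 3, -1, -1, -1, -1, 1, -1, -1],
  [-1, 1, 3, 1, -1, -1, -3, -1, 1, -3, 1, 1, 1, -1, 3, 1, 1, 1, -3, 1, 1, -1, 1, 1],
  [-1, 1, 3, 1, -1, 3, 1, -1, -3, 1, 1, 1, 1, -1, -1, 1, 1, 1, 1, -3, -3, -1, 1, 1],
  [1, 3, 1, -1, 1, 1, -1, 1, -1, -1, -1, -1, -1, 1, 1, 3, -1, 3, 3, 3, -1, 1, -1, -1],
  [-1, 1, -1, 1, -1, 3, -3, 3, 1, 1, 1, 1, 1, -1, -1, 1, -3, -3, 1, 1, 1, -1, 1, 1],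
  [-1, 1, -1, 1, -1, -1, 1, 3, -3, 1, 1, 1, 1, -1, -1, 1, 1, 1, -3, 1, 1, 3, -3, 1],
  [-1, 1, -1, -3, 3, 3, 1, -1, 1, 1, 1, 1, -3, -1, -1, 1, 1, 1, -3, 1, 1, -1, 1, 1],
  [3, 1, -1, 1, -1, -1, 1, -1, 1, 1, 1, 1, 1, 3, -1, 1, 1, 1, 1, 1, 1, -1, 1, 5]]

theorem ok6 : Ok R6 (tr R6) := Cfsg.Agent.CoOneType.CoFast.ok_of_okZ (by decide +kernel)

/-- The matrices in `Co3`. -/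
def M3 : ℕ → List (List ℤ)
  | 2 => R2
  | 3 => R3
  | 4 => R4
  | 6 => R6
  | _ => R1

theorem okM3 (i : ℕ) : Ok (M3 i) (tr (M3 i)) := by
  unfold M3
  split
  · exact ok2
  · exact ok3
  · exact ok4
  · exact ok6
  · exact ok1

/-- The matrices in `Co2`. -/
def M2 : ℕ → List (List ℤ)
  | 2 => R2
  | 3 => R3
  | 5 => R5
  | _ => R1

theorem okM2 (i : ℕ) : Ok (M2 i) (tr (M2 i)) := by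
  unfold M2
  split
  · exact ok2
  · exact ok3
  · exact ok5
  · exact ok1

end Cfsg.Agent.H121.K6.CoMat
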