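import Cfsg.Agent.H121.K6.Normal
import Cfsg.Agent.H121.K6.Syl
import Cfsg.Agent.H121.K6.Tools
import Cfsg.Agent.H686.Odd.McLFive

/-!
# S4876, `p = 5`: the row of the McLaughlin group (helper121)

`c` central in the Sylow subgroup `⟨a, b⟩`: weight 4 (`⟨a, b⟩` is normal in `C(c)`, `s` of order 6); `a`: weight 1.
-/

set_option autoImplicit false
set_option maxRecDepth 100000

open Cfsg Subgroup

namespace Cfsg.Agent.H121.K6.McL

open Cfsg.Agent.H61.K6 Cfsg.Agent.H80.K6 Cfsg.Agent.H686.Odd.McL Cfsg.Agent.H58.McLOdd Cfsg.Agent.McLType.Model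
open Cfsg.Agent.McLType.X275
open scoped commutatorElement

universe u v

theorem closure_le_c : (closure {a, b} : Subgroup G1) ≤ centralizer ({c} : Set G1) := by
  rw [closure_le]
  rintro x (rfl | rfl)
  · exact mem_centralizer_singleton_iff.2 ca.symm
  · exact mem_centralizer_singleton_iff.2 cb.symm

theorem s_mem : s ∈ centralizer ({c} : Set G1) := mem_centralizer_singleton_iff.2 sc

theorem order_s : orderOf s = 6 := by
  have h1 := orderOf_dvd_of_pow_eq_one s_pow
  have h2 : ¬ orderOf s ∣ 2 := fun h => s2_ne (orderOf_dvd_iff_pow_eq_one.1 h)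
  have h3 : ¬ orderOf s ∣ 3 := fun h => s3_ne (orderOf_dvd_iff_pow_eq_one.1 h)
  have h4 : orderOf s ≤ 6 := Nat.le_of_dvd (by norm_num) h1
  generalize orderOf s = k at *
  interval_cases k <;> first | rfl | (exfalso; revert h1 h2 h3; decide)

theorem card_c : Nat.card (centralizer ({c} : Set G1)) = 750 ∨ Nat.card (centralizer ({c} : Set G1)) = 1500 := by
  have h1 : 125 ∣ Nat.card (centralizer ({c} : Set G1)) := by
    rw [← card_ab]; exact Subgroup.card_dvd_of_le closure_le_c
  have h2 : 6 ∣ Nat.card (centralizer ({c} : Set G1)) := by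
    have h3 := orderOf_dvd_natCard (⟨s, s_mem⟩ : centralizer ({c} : Set G1))
    rwa [Subgroup.orderOf_mk, order_s] at h3
  have h3 : 125 * 6 ∣ Nat.card (centralizer ({c} : Set G1)) :=
    (by norm_num : Nat.Coprime 125 6).mul_dvd_of_dvd_of_dvd h1 h2
  have h4 := card_c_le
  have h5 : 0 < Nat.card (centralizer ({c} : Set G1)) := Nat.card_pos
  obtain ⟨k, hk⟩ := h3
  omega

theorem cS : (chk (cj s6 x5) (pw x5 2 ++ (y5 ++ cm x5 y5)) && chk (cj s6 y5) (pw x5 2 ++ pw y5 4)) = true := by
  decide +kernel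

/-- the powers of `s` act nontrivially -/
noncomputable def dp (k : ℕ) : Bool := (List.range 275).any fun i => !(Nat.beq (app (x5 ++ pw s6 k) i) (app (pw s6 k ++ x5) i))

theorem cK : (dp 1 && dp 2 && dp 3 && dp 4 && dp 5) = true := by decide +kernel

theorem cN : chk (cj (n8 ++ n8) (cm x5 y5)) (pw (cm x5 y5) 4) = true := by decide +kernel

theorem ne_of_dp {k : ℕ} (h : dp k = true) : a * s ^ k ≠ s ^ k * a := by
  obtain ⟨i, hi, h1⟩ := List.any_eq_true.1 h
  rw [a, s, ← wd_pw, ← wd_app, ← wd_app]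
  exact ne_of_pt (List.mem_range.1 hi) (by simpa using h1)

theorem sa : s * a * s⁻¹ = a ^ 2 * (b * c) := by
  have h := cS
  simp only [Bool.and_eq_true] at h
  have h1 := eq_of_chk h.1
  rw [wd_cj, wd_app, wd_app, wd_pw, ← c_eq] at h1
  exact h1

theorem sb : s * b * s⁻¹ = a ^ 2 * b ^ 4 := by
  have h := cS
  simp only [Bool.and_eq_true] at h
  have h1 := eq_of_chk h.2
  rw [wd_cj, wd_app, wd_pw, wd_pw] at h1
  exact h1

/-- the Sylow subgroup -/
noncomputable abbrev P : Subgroup G1 := closure {a, b}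

theorem aP : a ∈ P := subset_closure (Or.inl rfl)
theorem bP : b ∈ P := subset_closure (Or.inr rfl)
theorem cP : c ∈ P := by
  rw [c, commutatorElement_def]
  exact P.mul_mem (P.mul_mem (P.mul_mem aP bP) (P.inv_mem aP)) (P.inv_mem bP)

theorem s_norm : s ∈ normalizer (P : Set G1) := by
  refine mem_normalizer_closure ?_
  rintro x (rfl | rfl)
  · rw [sa]
    exact P.mul_mem (P.pow_mem aP 2) (P.mul_mem bP cP)
  · rw [sb]
    exact P.mul_mem (P.pow_mem aP 2) (P.pow_mem bP 4)

theorem not_dvd : ¬ 5 ^ (3 + 1) ∣ Nat.card (centralizer ({c} : Set G1)) := by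
  rcases card_c with h | h <;> rw [h] <;> norm_num

theorem idx : ¬ 5 ∣ (P.subgroupOf (centralizer ({c} : Set G1))).index := by
  have : Fact (Nat.Prime 5) := ⟨Nat.prime_five⟩
  exact index_not_dvd (n := 3) closure_le_c (by rw [card_ab]; norm_num) not_dvd

theorem P_normal : (P.subgroupOf (centralizer ({c} : Set G1))).Normal := by
  have : Fact (Nat.Prime 5) := ⟨Nat.prime_five⟩
  refine normal_of_card (m := 750) (k := 2) closure_le_c isPGroup idx (by norm_num) ?_ ?_ ?_
  · have h1 : 125 ∣ Nat.card ↥(normalizer (P : Set G1) ⊓ centralizer ({c} : Set G1)) := by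
      rw [← card_ab]
      exact Subgroup.card_dvd_of_le (le_inf Subgroup.le_normalizer closure_le_c)
    have h2 : 6 ∣ Nat.card ↥(normalizer (P : Set G1) ⊓ centralizer ({c} : Set G1)) :=
      dvd_of_mem ⟨s_norm, s_mem⟩ order_s
    exact (by norm_num : Nat.Coprime 125 6).mul_dvd_of_dvd_of_dvd h1 h2
  · rcases card_c with h | h <;> rw [h] <;> norm_num
  · intro d hd h5
    have := Nat.le_of_dvd (by norm_num) hd
    interval_cases d <;> simp_all

theorem eps_c : EpsGe.{u, 0} 5 c 4 := by
  have : Fact (Nat.Prime 5) := ⟨Nat.prime_five⟩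
  have hk := cK
  simp only [Bool.and_eq_true] at hk
  obtain ⟨⟨⟨⟨k1, k2⟩, k3⟩, k4⟩, k5⟩ := hk
  have hcomm : ∀ j : ℕ, s ^ j * c = c * s ^ j := fun j => ((show Commute s c from sc).pow_left j).eq
  refine epsGe_normal (O := {1, 2, 3, 6}) P closure_le_c isPGroup idx P_normal ?_
  intro m hm
  simp only [Finset.mem_insert, Finset.mem_singleton] at hm
  rcases hm with rfl | rfl | rfl | rfl
  · exact ⟨by norm_num, 1, by simp, by simp, fun k h0 h1 => absurd h1 (by omega)⟩
  · refine ⟨by norm_num, s ^ 3, hcomm 3, by rw [← pow_mul]; exact s_pow, fun k h0 h1 => ⟨a, aP, ?_⟩⟩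
    rw [← pow_mul]
    have : k = 1 := by omega
    subst this
    exact ne_of_dp k3
  · refine ⟨by norm_num, s ^ 2, hcomm 2, by rw [← pow_mul]; exact s_pow, fun k h0 h1 => ⟨a, aP, ?_⟩⟩
    rw [← pow_mul]
    interval_cases k
    · exact ne_of_dp k2
    · exact ne_of_dp k4
  · refine ⟨by norm_num, s, by simpa using hcomm 1, s_pow, fun k h0 h1 => ⟨a, aP, ?_⟩⟩
    interval_cases k
    · exact ne_of_dp k1
    · exact ne_of_dp k2
    · exact ne_of_dp k3
    · exact ne_of_dp k4
    · exact ne_of_dp k5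

theorem a_ne : a ≠ 1 := by
  intro h
  apply c_ne
  rw [c, h, commutatorElement_def]
  simp

theorem order_a : orderOf a = 5 := by
  have : Fact (Nat.Prime 5) := ⟨Nat.prime_five⟩
  exact orderOf_eq_prime a_pow a_ne

theorem card_a : Nat.card (centralizer ({a} : Set G1)) ≤ 50 := by
  obtain ⟨i, hi⟩ := exists_fix (i := 1) (j := 0) (by norm_num) (by norm_num) (by simp)
  rw [pow_one, pow_zero, mul_one] at hi
  exact type_b order_a hi

theorem a_ne_c : a ≠ c := by
  intro h
  have h1 := card_a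
  rw [h] at h1
  rcases card_c with h2 | h2 <;> omega

theorem row_G1 : KRow.{u, 0} 5 G1 := by
  classical
  have : Fact (Nat.Prime 5) := ⟨Nat.prime_five⟩
  have hX : ¬ HasNormalPComplement 5 G1 := by
    refine not_compl_of_inv Nat.prime_five (by norm_num) (k := 1) (y := c) (n := wd (n8 ++ n8))
      (by rw [pow_one]; exact c_pow) c_ne ?_
    have h1 := eq_of_chk cN
    rw [wd_cj, wd_pw, ← c_eq] at h1
    rw [h1, eq_inv_iff_mul_eq_one, ← pow_succ]
    exact c_pow
  refine KRow.of_weights hX {a, c} ?_ ?_ (fun x => if x = c then 4 else 1) ?_ ?_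
  · intro x hx
    simp only [Finset.mem_insert, Finset.mem_singleton] at hx
    rcases hx with rfl | rfl
    · exact ⟨⟨1, by rw [order_a, pow_one]⟩, a_ne⟩
    · exact ⟨⟨1, by rw [order_c, pow_one]⟩, c_ne⟩
  · intro x hx y hy σ hσ
    simp only [Finset.mem_insert, Finset.mem_singleton] at hx hy
    have h1 := card_a
    have h2 := card_centralizer_aut σ x
    rw [hσ] at h2
    rcases hx with rfl | rfl <;> rcases hy with rfl | rfl
    · rfl
    · exfalso
      rcases card_c with h3 | h3 <;> omega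
    · exfalso
      rcases card_c with h3 | h3 <;> omega
    · rfl
  · intro x hx
    simp only [Finset.mem_insert, Finset.mem_singleton] at hx
    rcases hx with rfl | rfl
    · rw [if_neg a_ne_c]
      exact (epsGe_one a).wtGe
    · rw [if_pos rfl]
      exact eps_c.wtGe
  · rw [Finset.sum_pair a_ne_c, if_neg a_ne_c, if_pos rfl]

/-- **The row of `McL`.** -/
theorem row_mcl {X : Type v} [Group X] (h : Cfsg.Spor.IsoMcL X) : KRow.{u, v} 5 X := by
  obtain ⟨e⟩ := h
  obtain ⟨f⟩ := isoMcL_G1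
  exact KRow.congr (f.trans e.symm) row_G1

end Cfsg.Agent.H121.K6.McL
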